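import Mathlib
import Groth.Prelude.Def_StrictSS

/-!
# Base change of the node model `A[u,v]/(uv - a)` (helper8, S15645)
-/

set_option autoImplicit false
universe u

open CategoryTheory CategoryTheory.Limits AlgebraicGeometry TensorProduct

namespace Groth.Agent.H8.NodeModel

variable (A A' : Type u) [CommRing A] [CommRing A'] [Algebra A A'] (a : A)

/-- the natural map `A[u,v]/(uv - a) → A'[u,v]/(uv - a')` -/
noncomputable def nat : StrictSS.NodeAlg A a →ₐ[A] StrictSS.NodeAlg A' (algebraMap A A' a) :=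
  Ideal.Quotient.liftₐ _ ((Ideal.Quotient.mkₐ A _).comp
    (MvPolynomial.mapAlgHom (Algebra.ofId A A'))) (by
    intro p hp
    have hle : Ideal.span {(MvPolynomial.X 0 * MvPolynomial.X 1 - MvPolynomial.C a :
        MvPolynomial (Fin 2) A)} ≤ RingHom.ker ((Ideal.Quotient.mkₐ A
          (Ideal.span {(MvPolynomial.X 0 * MvPolynomial.X 1 -
            MvPolynomial.C (algebraMap A A' a) : MvPolynomial (Fin 2) A')})).comp
          (MvPolynomial.mapAlgHom (Algebra.ofId A A'))) := by
      rw [Ideal.span_singleton_le_iff_mem, RingHom.mem_ker]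
      simp only [AlgHom.comp_apply, Ideal.Quotient.mkₐ_eq_mk, map_sub, map_mul,
        MvPolynomial.mapAlgHom_apply, MvPolynomial.map_X, MvPolynomial.map_C]
      rw [← map_mul, ← map_sub, Ideal.Quotient.eq_zero_iff_mem]
      exact Ideal.subset_span rfl
    exact RingHom.mem_ker.mp (hle hp))

theorem nat_mk (p : MvPolynomial (Fin 2) A) :
    nat A A' a (Ideal.Quotient.mk _ p) =
      Ideal.Quotient.mk _ (MvPolynomial.map (algebraMap A A') p) := rfl

/-- `A' ⊗ A[u,v]/(uv - a) → A'[u,v]/(uv - a')` -/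
noncomputable def bcF :
    A' ⊗[A] StrictSS.NodeAlg A a →ₐ[A'] StrictSS.NodeAlg A' (algebraMap A A' a) :=
  Algebra.TensorProduct.lift (Algebra.ofId A' _) (nat A A' a) (fun _ _ => Commute.all _ _)

theorem bcF_tmul (r : A') (x : StrictSS.NodeAlg A a) :
    bcF A A' a (r ⊗ₜ x) = algebraMap A' _ r * nat A A' a x :=
  Algebra.TensorProduct.lift_tmul _ _ _ _ _

/-- `A'[u,v]/(uv - a') → A' ⊗ A[u,v]/(uv - a)` -/
noncomputable def bcG :
    StrictSS.NodeAlg A' (algebraMap A A' a) →ₐ[A'] A' ⊗[A] StrictSS.NodeAlg A a :=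
  Ideal.Quotient.liftₐ _ (MvPolynomial.aeval (fun i : Fin 2 =>
    ((1 : A') ⊗ₜ[A] (Ideal.Quotient.mk _ (MvPolynomial.X i) : StrictSS.NodeAlg A a)))) (by
    intro p hp
    have hle : Ideal.span {(MvPolynomial.X 0 * MvPolynomial.X 1 -
        MvPolynomial.C (algebraMap A A' a) : MvPolynomial (Fin 2) A')} ≤
        RingHom.ker (MvPolynomial.aeval (R := A') (fun i : Fin 2 =>
          ((1 : A') ⊗ₜ[A] (Ideal.Quotient.mk _ (MvPolynomial.X i) : StrictSS.NodeAlg A a)))) := by
      rw [Ideal.span_singleton_le_iff_mem, RingHom.mem_ker]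
      rw [map_sub, map_mul, MvPolynomial.aeval_X, MvPolynomial.aeval_X, MvPolynomial.aeval_C,
        Algebra.TensorProduct.tmul_mul_tmul, one_mul, Algebra.TensorProduct.algebraMap_apply,
        Algebra.algebraMap_self_apply]
      have h1 : (algebraMap A A' a) ⊗ₜ[A] (1 : StrictSS.NodeAlg A a) =
          (1 : A') ⊗ₜ[A] (algebraMap A (StrictSS.NodeAlg A a) a) := by
        rw [Algebra.algebraMap_eq_smul_one, Algebra.algebraMap_eq_smul_one (A := StrictSS.NodeAlg A a),
          TensorProduct.smul_tmul]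
      rw [h1, ← TensorProduct.tmul_sub, ← map_mul]
      have h0 : (Ideal.Quotient.mk (Ideal.span {(MvPolynomial.X 0 * MvPolynomial.X 1 -
          MvPolynomial.C a : MvPolynomial (Fin 2) A)})) (MvPolynomial.X 0 * MvPolynomial.X 1) -
          algebraMap A (StrictSS.NodeAlg A a) a = 0 := by
        show Ideal.Quotient.mk _ _ - Ideal.Quotient.mk _ (MvPolynomial.C a) = 0
        rw [← map_sub, Ideal.Quotient.eq_zero_iff_mem]
        exact Ideal.subset_span rfl
      rw [h0, TensorProduct.tmul_zero]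
    exact RingHom.mem_ker.mp (hle hp))

theorem bcG_mk_X (i : Fin 2) : bcG A A' a (Ideal.Quotient.mk _ (MvPolynomial.X i)) =
    (1 : A') ⊗ₜ[A] (Ideal.Quotient.mk _ (MvPolynomial.X i) : StrictSS.NodeAlg A a) := by
  show MvPolynomial.aeval _ (MvPolynomial.X i) = _
  rw [MvPolynomial.aeval_X]

theorem nat_mk_X (i : Fin 2) : nat A A' a (Ideal.Quotient.mk _ (MvPolynomial.X i)) =
    Ideal.Quotient.mk _ (MvPolynomial.X i) := by
  rw [nat_mk, MvPolynomial.map_X]

theorem bcF_comp_bcG : (bcF A A' a).comp (bcG A A' a) = AlgHom.id A' _ := by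
  apply Ideal.Quotient.algHom_ext
  apply MvPolynomial.algHom_ext
  intro i
  simp only [AlgHom.comp_apply, Ideal.Quotient.mkₐ_eq_mk, AlgHom.id_apply]
  rw [bcG_mk_X, bcF_tmul, map_one, one_mul, nat_mk_X]

theorem bcG_comp_bcF : (bcG A A' a).comp (bcF A A' a) = AlgHom.id A' _ := by
  apply Algebra.TensorProduct.ext
  · ext
  · apply Ideal.Quotient.algHom_ext
    apply MvPolynomial.algHom_ext
    intro i
    simp only [AlgHom.comp_apply, Ideal.Quotient.mkₐ_eq_mk, AlgHom.id_apply,
      AlgHom.coe_restrictScalars', Algebra.TensorProduct.includeRight_apply]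
    rw [bcF_tmul, map_one, one_mul, nat_mk_X, bcG_mk_X]

/-- `A' ⊗ A[u,v]/(uv - a) ≃ A'[u,v]/(uv - a')` -/
noncomputable def bcEquiv :
    A' ⊗[A] StrictSS.NodeAlg A a ≃ₐ[A'] StrictSS.NodeAlg A' (algebraMap A A' a) :=
  AlgEquiv.ofAlgHom (bcF A A' a) (bcG A A' a) (bcF_comp_bcG A A' a) (bcG_comp_bcF A A' a)

theorem bcEquiv_one_tmul (x : StrictSS.NodeAlg A a) :
    bcEquiv A A' a (1 ⊗ₜ x) = nat A A' a x := by
  show bcF A A' a (1 ⊗ₜ x) = _
  rw [bcF_tmul, map_one, one_mul]

theorem isPullback_node :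
    IsPullback (Spec.map (CommRingCat.ofHom (nat A A' a).toRingHom))
      (StrictSS.nodeToBase A' (algebraMap A A' a)) (StrictSS.nodeToBase A a)
      (Spec.map (CommRingCat.ofHom (algebraMap A A'))) := by
  letI : Algebra (StrictSS.NodeAlg A a) (StrictSS.NodeAlg A' (algebraMap A A' a)) :=
    (nat A A' a).toRingHom.toAlgebra
  haveI : IsScalarTower A (StrictSS.NodeAlg A a) (StrictSS.NodeAlg A' (algebraMap A A' a)) :=
    IsScalarTower.of_algebraMap_eq (fun x => ((nat A A' a).commutes x).symm)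
  haveI : Algebra.IsPushout A A' (StrictSS.NodeAlg A a)
      (StrictSS.NodeAlg A' (algebraMap A A' a)) := by
    refine ⟨IsBaseChange.of_equiv (bcEquiv A A' a).toLinearEquiv (fun x => ?_)⟩
    exact bcEquiv_one_tmul A A' a x
  have h := CommRingCat.isPushout_of_isPushout A A' (StrictSS.NodeAlg A a)
    (StrictSS.NodeAlg A' (algebraMap A A' a))
  exact (isPullback_SpecMap_of_isPushout _ _ _ _ h).flip

end Groth.Agent.H8.NodeModel
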