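import Mathlib
import Groth.Prelude.Def_CurvBase
import Groth.Prelude.Def_StrictSS
import Groth.Agent.Lib.Helper8.NodeInv.PSFacts
import Groth.Agent.Lib.Helper8.Rig.Basic
import Groth.Agent.Lib.Helper8.SmCompl.ComplIso
import Groth.Agent.Lib.Helper5.CA.PSAdicSmooth

/-!
# The local ring of `K[u,v]/(uv)` at the origin is an ordinary double point (helper8, S15645)
-/

set_option autoImplicit false
universe u

namespace Groth.Agent.H8.NodeModel

open Groth.Agent.H8.NodeInv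

variable (K : Type u) [Field K] {c : K}

/-- polynomials to power series, as a `K`-algebra map -/
noncomputable abbrev toPS : MvPolynomial (Fin 2) K →ₐ[K] MvPowerSeries (Fin 2) K :=
  MvPolynomial.coeToMvPowerSeries.algHom (σ := Fin 2) K

theorem toPS_apply (p : MvPolynomial (Fin 2) K) : toPS K p = (p : MvPowerSeries (Fin 2) K) := by
  simp [toPS, MvPolynomial.coeToMvPowerSeries.algHom_apply]

/-- `K[u,v]/(uv) → K[[x,y]]/(xy)` -/
noncomputable def phi0 (hc : c = 0) : StrictSS.NodeAlg K c →ₐ[K] Tq K :=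
  Ideal.Quotient.liftₐ _ ((Ideal.Quotient.mkₐ K _).comp (toPS K)) (by
    intro a ha
    have hle : Ideal.span {(MvPolynomial.X 0 * MvPolynomial.X 1 - MvPolynomial.C c :
        MvPolynomial (Fin 2) K)} ≤ RingHom.ker ((Ideal.Quotient.mkₐ K
          (Ideal.span {(MvPowerSeries.X 0 * MvPowerSeries.X 1 : MvPowerSeries (Fin 2) K)})).comp
          (toPS K)) := by
      rw [Ideal.span_singleton_le_iff_mem, RingHom.mem_ker]
      subst hc
      simp only [AlgHom.comp_apply, Ideal.Quotient.mkₐ_eq_mk, toPS_apply, map_zero, sub_zero,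
        MvPolynomial.coe_mul, MvPolynomial.coe_X]
      exact Ideal.Quotient.eq_zero_iff_mem.mpr (Ideal.subset_span rfl)
    exact RingHom.mem_ker.mp (hle ha))

theorem phi0_mk (hc : c = 0) (p : MvPolynomial (Fin 2) K) :
    phi0 K hc (Ideal.Quotient.mk _ p) = Ideal.Quotient.mk _ (p : MvPowerSeries (Fin 2) K) := by
  show ((Ideal.Quotient.mkₐ K _).comp (toPS K)) p = _
  simp only [AlgHom.comp_apply, Ideal.Quotient.mkₐ_eq_mk, toPS_apply]

/-- evaluation at the origin -/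
noncomputable def ev0 (hc : c = 0) : StrictSS.NodeAlg K c →ₐ[K] K :=
  Ideal.Quotient.liftₐ _ (MvPolynomial.aeval (fun _ : Fin 2 => (0 : K))) (by
    intro a ha
    have hle : Ideal.span {(MvPolynomial.X 0 * MvPolynomial.X 1 - MvPolynomial.C c :
        MvPolynomial (Fin 2) K)} ≤ RingHom.ker (MvPolynomial.aeval (fun _ : Fin 2 => (0 : K))) := by
      rw [Ideal.span_singleton_le_iff_mem, RingHom.mem_ker]
      subst hc
      simp
    exact RingHom.mem_ker.mp (hle ha))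

theorem ev0_mk (hc : c = 0) (p : MvPolynomial (Fin 2) K) :
    ev0 K hc (Ideal.Quotient.mk _ p) = MvPolynomial.constantCoeff p := by
  show MvPolynomial.aeval (fun _ : Fin 2 => (0 : K)) p = _
  rw [MvPolynomial.aeval_zero']
  rfl

theorem cc_phi0 (hc : c = 0) (r : StrictSS.NodeAlg K c) : cc K (phi0 K hc r) = ev0 K hc r := by
  obtain ⟨p, rfl⟩ := Ideal.Quotient.mk_surjective r
  rw [phi0_mk, cc_mk, ev0_mk, MvPolynomial.constantCoeff_eq, ← MvPolynomial.coeff_coe]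
  rfl

theorem ev0_surjective (hc : c = 0) : Function.Surjective (ev0 K hc) := fun k =>
  ⟨algebraMap K _ k, by rw [AlgHom.commutes]; rfl⟩

instance ker_ev0_isMaximal (hc : c = 0) : (RingHom.ker (ev0 K hc)).IsMaximal :=
  RingHom.ker_isMaximal_of_surjective _ (ev0_surjective K hc)

theorem isUnit_phi0 (hc : c = 0) (r : StrictSS.NodeAlg K c) (hr : ev0 K hc r ≠ 0) :
    IsUnit (phi0 K hc r) := by
  obtain ⟨p, rfl⟩ := Ideal.Quotient.mk_surjective r
  rw [phi0_mk]
  apply IsUnit.map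
  rw [MvPowerSeries.isUnit_iff_constantCoeff]
  rw [ev0_mk, MvPolynomial.constantCoeff_eq, ← MvPolynomial.coeff_coe] at hr
  exact isUnit_iff_ne_zero.mpr hr

/-- the ideal of the origin in `K[[x,y]]/(xy)` -/
noncomputable def IQ : Ideal (Tq K) :=
  (Ideal.span (Set.range (MvPowerSeries.X : Fin 2 → MvPowerSeries (Fin 2) K))).map
    (Ideal.Quotient.mk _)

theorem mem_IQ_of_cc (z : Tq K) (hz : cc K z = 0) : z ∈ IQ K := by
  obtain ⟨f, rfl⟩ := Ideal.Quotient.mk_surjective z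
  rw [cc_mk] at hz
  refine Ideal.mem_map_of_mem _ ?_
  rw [← Groth.Agent.H5.CA.ker_constantCoeff_eq_span, RingHom.mem_ker]
  exact hz

instance isAdicComplete_IQ : IsAdicComplete (IQ K) (Tq K) := by
  have h0 : Groth.Agent.H5.FSm.psIdeal (⊥ : Ideal K) 2 =
      Ideal.span (Set.range (MvPowerSeries.X : Fin 2 → MvPowerSeries (Fin 2) K)) := by
    rw [Groth.Agent.H5.FSm.psIdeal, Ideal.map_bot, bot_sup_eq]
  haveI : IsAdicComplete
      (Ideal.span (Set.range (MvPowerSeries.X : Fin 2 → MvPowerSeries (Fin 2) K)))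
      (MvPowerSeries (Fin 2) K) := by
    rw [← h0]
    infer_instance
  exact Groth.Agent.H8.Rig.isAdicComplete_quotient (MvPowerSeries (Fin 2) K) _ _

section Main

variable {K}
variable (hc : c = 0) (𝔪 : Ideal (StrictSS.NodeAlg K c)) [𝔪.IsPrime]
  (h𝔪 : 𝔪 = RingHom.ker (ev0 K hc))
  (B : Type u) [CommRing B] [IsLocalRing B] [Algebra (StrictSS.NodeAlg K c) B] [Algebra K B]
  [IsScalarTower K (StrictSS.NodeAlg K c) B] [IsLocalization.AtPrime B 𝔪]

include h𝔪 in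
theorem isUnit_phi0_of_primeCompl (y : 𝔪.primeCompl) :
    IsUnit ((phi0 K hc : StrictSS.NodeAlg K c →+* Tq K) y) := by
  apply isUnit_phi0 K hc
  intro h
  have h2 : (y : StrictSS.NodeAlg K c) ∈ RingHom.ker (ev0 K hc) := RingHom.mem_ker.mpr h
  exact y.2 (h𝔪.ge h2)

/-- the map from the local ring at the origin to `K[[x,y]]/(xy)` -/
noncomputable def phi : B →ₐ[K] Tq K :=
  { IsLocalization.lift (M := 𝔪.primeCompl) (S := B)
      (g := (phi0 K hc : StrictSS.NodeAlg K c →+* Tq K))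
      (isUnit_phi0_of_primeCompl hc 𝔪 h𝔪) with
    commutes' := fun k => by
      show IsLocalization.lift _ (algebraMap K B k) = _
      rw [IsScalarTower.algebraMap_apply K (StrictSS.NodeAlg K c) B, IsLocalization.lift_eq]
      exact (phi0 K hc).commutes k }

theorem phi_algebraMap (r : StrictSS.NodeAlg K c) :
    phi hc 𝔪 h𝔪 B (algebraMap _ B r) = phi0 K hc r :=
  IsLocalization.lift_eq _ r

theorem maximalIdeal_le_comap :
    IsLocalRing.maximalIdeal B ≤ (IQ K).comap (phi hc 𝔪 h𝔪 B) := by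
  rw [← IsLocalization.AtPrime.map_eq_maximalIdeal 𝔪 B, Ideal.map_le_iff_le_comap]
  intro r hr
  rw [Ideal.mem_comap, Ideal.mem_comap, phi_algebraMap]
  apply mem_IQ_of_cc
  rw [cc_phi0]
  rw [h𝔪] at hr
  exact RingHom.mem_ker.mp hr

theorem phi_surj_mod (n : ℕ) (s : Tq K) : ∃ b : B, s - phi hc 𝔪 h𝔪 B b ∈ IQ K ^ n := by
  obtain ⟨f, rfl⟩ := Ideal.Quotient.mk_surjective s
  refine ⟨algebraMap (StrictSS.NodeAlg K c) B
    (Ideal.Quotient.mk _ (MvPowerSeries.truncTotal n f)), ?_⟩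
  rw [phi_algebraMap, phi0_mk, ← map_sub, IQ, ← Ideal.map_pow]
  exact Ideal.mem_map_of_mem _ (Groth.Agent.H5.CA.sub_truncTotal_mem_pow n f)

include h𝔪 in
theorem mk_X_mem (i : Fin 2) :
    algebraMap (StrictSS.NodeAlg K c) B (Ideal.Quotient.mk _ (MvPolynomial.X i)) ∈
      IsLocalRing.maximalIdeal B := by
  rw [← IsLocalization.AtPrime.map_eq_maximalIdeal 𝔪 B]
  refine Ideal.mem_map_of_mem _ ?_
  rw [h𝔪, RingHom.mem_ker, ev0_mk, MvPolynomial.constantCoeff_X]

theorem phi_inj_mod (n : ℕ) (b : B) (hb : phi hc 𝔪 h𝔪 B b ∈ IQ K ^ n) :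
    b ∈ IsLocalRing.maximalIdeal B ^ n := by
  classical
  set J := IsLocalRing.maximalIdeal B with hJ
  let z : Fin 2 → B ⧸ J ^ n := fun i => Ideal.Quotient.mk (J ^ n)
    (algebraMap (StrictSS.NodeAlg K c) B (Ideal.Quotient.mk _ (MvPolynomial.X i)))
  have hzJ : ∀ i, z i ∈ J.map (Ideal.Quotient.mk (J ^ n)) := fun i =>
    Ideal.mem_map_of_mem _ (mk_X_mem hc 𝔪 h𝔪 B i)
  have hz : ∀ i, IsNilpotent (z i) := by
    intro i
    refine ⟨n, ?_⟩
    show (Ideal.Quotient.mk (J ^ n) _) ^ n = 0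
    rw [← map_pow, Ideal.Quotient.eq_zero_iff_mem]
    exact Ideal.pow_mem_pow (mk_X_mem hc 𝔪 h𝔪 B i) n
  obtain ⟨g, N, hg, -⟩ := Groth.Agent.H5.CA.exists_algHom_of_isNilpotent (A := K) 2
    (E := B ⧸ J ^ n) z hz
  have hg01 : g (MvPowerSeries.X 0 * MvPowerSeries.X 1) = 0 := by
    rw [map_mul, hg, hg]
    show Ideal.Quotient.mk (J ^ n) _ * Ideal.Quotient.mk (J ^ n) _ = 0
    rw [← map_mul, ← map_mul, ← map_mul]
    have h0 : (Ideal.Quotient.mk (Ideal.span {(MvPolynomial.X 0 * MvPolynomial.X 1 -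
        MvPolynomial.C c : MvPolynomial (Fin 2) K)})) (MvPolynomial.X 0 * MvPolynomial.X 1) = 0 := by
      rw [Ideal.Quotient.eq_zero_iff_mem]
      subst hc
      rw [map_zero, sub_zero]
      exact Ideal.subset_span rfl
    rw [h0, map_zero, map_zero]
  let gt : Tq K →ₐ[K] B ⧸ J ^ n := Ideal.Quotient.liftₐ _ g (by
    intro a ha
    rw [Ideal.mem_span_singleton'] at ha
    obtain ⟨w, rfl⟩ := ha
    rw [map_mul, hg01, mul_zero])
  have hgt : ∀ f, gt (Ideal.Quotient.mk _ f) = g f := fun f => rfl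
  -- the two maps from the polynomial quotient agree
  have hcomp : (gt.comp (phi0 K hc)) = (Ideal.Quotient.mkₐ K (J ^ n)).comp
      (IsScalarTower.toAlgHom K (StrictSS.NodeAlg K c) B) := by
    apply Ideal.Quotient.algHom_ext
    apply MvPolynomial.algHom_ext
    intro i
    simp only [AlgHom.comp_apply, Ideal.Quotient.mkₐ_eq_mk, IsScalarTower.coe_toAlgHom']
    rw [phi0_mk, MvPolynomial.coe_X, hgt, hg]
  have hring : (gt : Tq K →+* B ⧸ J ^ n).comp (phi hc 𝔪 h𝔪 B : B →+* Tq K) =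
      Ideal.Quotient.mk (J ^ n) := by
    apply IsLocalization.ringHom_ext 𝔪.primeCompl
    refine RingHom.ext (fun r => ?_)
    simp only [RingHom.comp_apply, RingHom.coe_coe]
    rw [phi_algebraMap]
    exact congrArg (fun F : StrictSS.NodeAlg K c →ₐ[K] B ⧸ J ^ n => F r) hcomp
  have hb2 : Ideal.Quotient.mk (J ^ n) b = gt (phi hc 𝔪 h𝔪 B b) := by
    rw [← hring]
    rfl
  have hmap : (IQ K).map (gt : Tq K →+* B ⧸ J ^ n) ≤ J.map (Ideal.Quotient.mk (J ^ n)) := by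
    rw [IQ, Ideal.map_map, Ideal.map_span, Ideal.span_le]
    rintro _ ⟨_, ⟨i, rfl⟩, rfl⟩
    show gt (Ideal.Quotient.mk _ (MvPowerSeries.X i)) ∈ _
    rw [hgt, hg]
    exact hzJ i
  have h3 : gt (phi hc 𝔪 h𝔪 B b) ∈ (J.map (Ideal.Quotient.mk (J ^ n))) ^ n := by
    have h4 : gt (phi hc 𝔪 h𝔪 B b) ∈ (IQ K ^ n).map (gt : Tq K →+* B ⧸ J ^ n) :=
      Ideal.mem_map_of_mem _ hb
    rw [Ideal.map_pow] at h4
    exact Ideal.pow_right_mono hmap n h4
  rw [← Ideal.map_pow, Ideal.map_quotient_self, Ideal.mem_bot] at h3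
  rw [← hb2, Ideal.Quotient.eq_zero_iff_mem] at h3
  exact h3

include h𝔪 in
/-- **The local ring of `K[u,v]/(uv)` at the origin is an ordinary double point.** -/
theorem isOrdDoublePt : Curv2.IsOrdDoublePt K B := by
  have hJI : ∀ n, IsLocalRing.maximalIdeal B ^ n ≤ (IQ K ^ n).comap (phi hc 𝔪 h𝔪 B) := fun n =>
    (Ideal.pow_right_mono (maximalIdeal_le_comap hc 𝔪 h𝔪 B) n).trans (Ideal.le_comap_pow _ n)
  obtain ⟨e₁⟩ := Groth.Agent.H8.SmCompl.nonempty_algEquiv (R := K) (IsLocalRing.maximalIdeal B)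
    (IQ K) (phi hc 𝔪 h𝔪 B) hJI (phi_surj_mod hc 𝔪 h𝔪 B) (phi_inj_mod hc 𝔪 h𝔪 B)
  let e₂ : Tq K ≃ₐ[Tq K] AdicCompletion (IQ K) (Tq K) := AdicCompletion.ofAlgEquiv (IQ K)
  refine ⟨(e₁ : AdicCompletion (IsLocalRing.maximalIdeal B) B ≃+* AdicCompletion (IQ K) (Tq K)).trans
    (e₂.symm : AdicCompletion (IQ K) (Tq K) ≃+* Tq K), fun k => ?_⟩
  have h1 : algebraMap B (AdicCompletion (IsLocalRing.maximalIdeal B) B) (algebraMap K B k) =
      algebraMap K (AdicCompletion (IsLocalRing.maximalIdeal B) B) k := rfl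
  rw [h1]
  show e₂.symm (e₁ (algebraMap K _ k)) = _
  rw [e₁.commutes]
  have h2 : algebraMap K (AdicCompletion (IQ K) (Tq K)) k =
      AdicCompletion.of (IQ K) (Tq K) (algebraMap K (Tq K) k) := rfl
  rw [h2, AdicCompletion.ofAlgEquiv_symm_of]
  rfl

end Main

end Groth.Agent.H8.NodeModel
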