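import Mathlib
import Groth.Prelude.Def_CurvBase
import Groth.Prelude.Def_StrictSS
import Groth.Agent.Lib.Helper8.NodeModel.Ring
import Groth.Agent.Lib.Helper8.NodeModel.BC
import Groth.Agent.Lib.Helper8.NodeEt.Geom

/-!
# The origin of `Spec κ[u,v]/(uv)` is a node (helper8, S15645)
-/

set_option autoImplicit false
universe u

open CategoryTheory CategoryTheory.Limits AlgebraicGeometry

namespace Groth.Agent.H8.NodeModel

theorem stalkMap_spec (K : Type u) [Field K] (R : Type u) [CommRing R] [Algebra K R]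
    (x : Spec (CommRingCat.of R)) (k : K) :
    letI : Algebra R ((Spec (CommRingCat.of R)).presheaf.stalk x) :=
      StructureSheaf.stalkAlgebra R x
    @Curv2.stalkMap K _ (Spec (CommRingCat.of R))
      ⟨Spec.map (CommRingCat.ofHom (algebraMap K R))⟩ x k =
    algebraMap R ((Spec (CommRingCat.of R)).presheaf.stalk x) (algebraMap K R k) := by
  unfold Curv2.stalkMap Coh.toGlobal
  simp only [RingHom.comp_apply]
  have h := Scheme.ΓSpecIso_inv_naturality (CommRingCat.ofHom (algebraMap K R))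
  have h2 := congrArg (fun f => f.hom k) h
  simp only [CommRingCat.hom_comp, RingHom.comp_apply, CommRingCat.hom_ofHom] at h2
  erw [← h2]
  rfl

section

variable (κ : Type u) [Field κ] {c : κ} (hc : c = 0)

theorem ker_ev0_le (P : Ideal (StrictSS.NodeAlg κ c))
    (hu : Ideal.Quotient.mk _ (MvPolynomial.X 0) ∈ P)
    (hv : Ideal.Quotient.mk _ (MvPolynomial.X 1) ∈ P) :
    RingHom.ker (ev0 κ hc) ≤ P := by
  intro r hr
  obtain ⟨p, rfl⟩ := Ideal.Quotient.mk_surjective r
  rw [RingHom.mem_ker, ev0_mk] at hr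
  have hp : p ∈ MvPolynomial.idealOfVars (Fin 2) κ := by
    have h1 := (MvPolynomial.mem_pow_idealOfVars_iff' 1 p).mpr (by
      intro x hx
      have hx0 : x = 0 := by
        rw [Nat.lt_one_iff] at hx
        exact (Finsupp.degree_eq_zero_iff x).mp hx
      rw [hx0]
      exact hr)
    rwa [pow_one] at h1
  have hle : (MvPolynomial.idealOfVars (Fin 2) κ).map (Ideal.Quotient.mk _) ≤ P := by
    rw [MvPolynomial.idealOfVars, Ideal.map_span, Ideal.span_le]
    rintro _ ⟨_, ⟨i, rfl⟩, rfl⟩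
    revert i
    rw [Fin.forall_fin_two]
    exact ⟨hu, hv⟩
  exact hle (Ideal.mem_map_of_mem _ hp)

theorem asIdeal_eq (P : Ideal (StrictSS.NodeAlg κ c)) [hP : P.IsPrime]
    (hu : Ideal.Quotient.mk _ (MvPolynomial.X 0) ∈ P)
    (hv : Ideal.Quotient.mk _ (MvPolynomial.X 1) ∈ P) :
    P = RingHom.ker (ev0 κ hc) :=
  ((ker_ev0_isMaximal κ hc).eq_of_le hP.ne_top (ker_ev0_le κ hc P hu hv)).symm

include hc in
theorem odp_spec_origin (x : Spec (CommRingCat.of (StrictSS.NodeAlg κ c)))
    (hu : Ideal.Quotient.mk _ (MvPolynomial.X 0) ∈ x.asIdeal)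
    (hv : Ideal.Quotient.mk _ (MvPolynomial.X 1) ∈ x.asIdeal) :
    @Curv2.IsOrdDoublePt κ _ ((Spec (CommRingCat.of (StrictSS.NodeAlg κ c))).presheaf.stalk x) _
      (@Curv2.stalkAlgebra κ _ _ ⟨StrictSS.nodeToBase κ c⟩ x) _ := by
  letI : Algebra (StrictSS.NodeAlg κ c)
      ((Spec (CommRingCat.of (StrictSS.NodeAlg κ c))).presheaf.stalk x) :=
    StructureSheaf.stalkAlgebra _ x
  haveI : IsLocalization.AtPrime
      ((Spec (CommRingCat.of (StrictSS.NodeAlg κ c))).presheaf.stalk x) x.asIdeal :=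
    StructureSheaf.IsLocalization.to_stalk _ x
  letI : Algebra κ ((Spec (CommRingCat.of (StrictSS.NodeAlg κ c))).presheaf.stalk x) :=
    @Curv2.stalkAlgebra κ _ _ ⟨StrictSS.nodeToBase κ c⟩ x
  haveI : IsScalarTower κ (StrictSS.NodeAlg κ c)
      ((Spec (CommRingCat.of (StrictSS.NodeAlg κ c))).presheaf.stalk x) :=
    IsScalarTower.of_algebraMap_eq (fun k => stalkMap_spec κ _ x k)
  exact isOrdDoublePt hc x.asIdeal (asIdeal_eq κ hc x.asIdeal hu hv) _

instance lft_nodeToBase (A : Type u) [CommRing A] (a : A) :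
    LocallyOfFiniteType (StrictSS.nodeToBase A a) := by
  rw [HasRingHomProperty.Spec_iff (P := @LocallyOfFiniteType)]
  exact RingHom.finiteType_algebraMap.mpr inferInstance

include hc in
theorem isNode_origin (x : Spec (CommRingCat.of (StrictSS.NodeAlg κ c)))
    (hu : Ideal.Quotient.mk _ (MvPolynomial.X 0) ∈ x.asIdeal)
    (hv : Ideal.Quotient.mk _ (MvPolynomial.X 1) ∈ x.asIdeal) :
    @Curv2.IsNode κ _ (Spec (CommRingCat.of (StrictSS.NodeAlg κ c)))
      ⟨StrictSS.nodeToBase κ c⟩ x := by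
  letI : (Spec (CommRingCat.of (StrictSS.NodeAlg κ c))).Over (Spec (CommRingCat.of κ)) :=
    ⟨StrictSS.nodeToBase κ c⟩
  have hx : x.asIdeal = RingHom.ker (ev0 κ hc) := asIdeal_eq κ hc x.asIdeal hu hv
  refine ⟨?_, ?_⟩
  · have hmax : x.asIdeal.IsMaximal := by rw [hx]; infer_instance
    exact (PrimeSpectrum.isClosed_singleton_iff_isMaximal x).2 hmax
  · have hcK : algebraMap κ (AlgebraicClosure κ) c = 0 := by rw [hc, map_zero]
    have hpb := isPullback_node κ (AlgebraicClosure κ) c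
    let xbar : Spec (CommRingCat.of (StrictSS.NodeAlg (AlgebraicClosure κ)
        (algebraMap κ (AlgebraicClosure κ) c))) :=
      (⟨RingHom.ker (ev0 (AlgebraicClosure κ) hcK), Ideal.IsMaximal.isPrime inferInstance⟩ :
        PrimeSpectrum _)
    have hubar : Ideal.Quotient.mk _ (MvPolynomial.X 0) ∈ xbar.asIdeal := by
      show _ ∈ RingHom.ker (ev0 (AlgebraicClosure κ) hcK)
      rw [RingHom.mem_ker, ev0_mk, MvPolynomial.constantCoeff_X]
    have hvbar : Ideal.Quotient.mk _ (MvPolynomial.X 1) ∈ xbar.asIdeal := by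
      show _ ∈ RingHom.ker (ev0 (AlgebraicClosure κ) hcK)
      rw [RingHom.mem_ker, ev0_mk, MvPolynomial.constantCoeff_X]
    have h1 : hpb.isoPullback.hom ≫ pullback.fst _ _ = Spec.map _ := hpb.isoPullback_hom_fst
    have h2 : hpb.isoPullback.hom ≫ pullback.snd _ _ = StrictSS.nodeToBase _ _ :=
      hpb.isoPullback_hom_snd
    refine ⟨hpb.isoPullback.hom xbar, ?_, ?_⟩
    · have h3 := congrArg (fun g => g xbar) h1
      simp only [Scheme.Hom.comp_apply] at h3
      change pullback.fst (StrictSS.nodeToBase κ c) _ (hpb.isoPullback.hom xbar) = x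
      rw [h3]
      apply PrimeSpectrum.ext
      rw [hx]
      refine asIdeal_eq κ hc _ ?_ ?_
      · show nat κ (AlgebraicClosure κ) c (Ideal.Quotient.mk _ (MvPolynomial.X 0)) ∈ xbar.asIdeal
        rw [nat_mk_X]
        exact hubar
      · show nat κ (AlgebraicClosure κ) c (Ideal.Quotient.mk _ (MvPolynomial.X 1)) ∈ xbar.asIdeal
        rw [nat_mk_X]
        exact hvbar
    · exact (Groth.Agent.H8.NodeEt.odp_stalk_iff (pullback.snd _ _)
        (StrictSS.nodeToBase (AlgebraicClosure κ) _) hpb.isoPullback.hom h2 xbar).mpr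
        (odp_spec_origin (AlgebraicClosure κ) hcK xbar hubar hvbar)

end

end Groth.Agent.H8.NodeModel
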