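import Mathlib
import Groth.Prelude.Def_StrictSS

/-!
# `A[u,v]/(uv - a)` is smooth over `A` away from `u = 0` and away from `v = 0` (helper8, S15645)
-/

set_option autoImplicit false
universe u

open Polynomial

namespace Groth.Agent.H8.NodeModel

variable (A : Type u) [CommRing A] (a : A) (i j : Fin 2) (hij : i ≠ j)

/-- the Laurent polynomial ring -/
abbrev Laur : Type u := Localization.Away (Polynomial.X : A[X])

/-- `T` -/
noncomputable def lT : Laur A := algebraMap A[X] (Laur A) Polynomial.X

/-- `T⁻¹` -/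
noncomputable def lTinv : Laur A := IsLocalization.Away.invSelf (Polynomial.X : A[X])

theorem lT_mul_lTinv : lT A * lTinv A = 1 := IsLocalization.Away.mul_invSelf _

instance smooth_Laur : Algebra.Smooth A (Laur A) := by
  haveI : Algebra.Smooth A A[X] := ⟨inferInstance, inferInstance⟩
  haveI : Algebra.Smooth A[X] (Laur A) := Algebra.Smooth.of_isLocalization_Away Polynomial.X
  exact Algebra.Smooth.comp A A[X] (Laur A)

/-- the class of the `k`-th variable -/
noncomputable def wv (k : Fin 2) : StrictSS.NodeAlg A a := Ideal.Quotient.mk _ (MvPolynomial.X k)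

include hij in
theorem rel_eq : (MvPolynomial.X 0 * MvPolynomial.X 1 - MvPolynomial.C a :
    MvPolynomial (Fin 2) A) = MvPolynomial.X i * MvPolynomial.X j - MvPolynomial.C a := by
  fin_cases i <;> fin_cases j
  · exact absurd rfl hij
  · rfl
  · simp [mul_comm]
  · exact absurd rfl hij

include hij in
theorem wv_mul : wv A a i * wv A a j = algebraMap A _ a := by
  have h : (Ideal.Quotient.mk (Ideal.span {(MvPolynomial.X 0 * MvPolynomial.X 1 -
      MvPolynomial.C a : MvPolynomial (Fin 2) A)})) (MvPolynomial.X i * MvPolynomial.X j -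
      MvPolynomial.C a) = 0 := by
    rw [Ideal.Quotient.eq_zero_iff_mem, ← rel_eq A a i j hij]
    exact Ideal.subset_span rfl
  rw [map_sub, map_mul, sub_eq_zero] at h
  exact h

include hij in
theorem fin_two_cases (k : Fin 2) : k = i ∨ k = j := by
  fin_cases i <;> fin_cases j <;> fin_cases k <;> simp_all

/-- `A[u,v]/(uv - a) → A[T,T⁻¹]`, `X i ↦ T`, `X j ↦ a T⁻¹` -/
noncomputable def psi : StrictSS.NodeAlg A a →ₐ[A] Laur A :=
  Ideal.Quotient.liftₐ _ (MvPolynomial.aeval (fun k : Fin 2 =>
    if k = i then lT A else a • lTinv A)) (by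
    intro p hp
    have hle : Ideal.span {(MvPolynomial.X 0 * MvPolynomial.X 1 - MvPolynomial.C a :
        MvPolynomial (Fin 2) A)} ≤ RingHom.ker (MvPolynomial.aeval (R := A) (fun k : Fin 2 =>
          if k = i then lT A else a • lTinv A)) := by
      rw [Ideal.span_singleton_le_iff_mem, RingHom.mem_ker, rel_eq A a i j hij]
      rw [map_sub, map_mul, MvPolynomial.aeval_X, MvPolynomial.aeval_X, MvPolynomial.aeval_C,
        if_pos rfl, if_neg hij.symm, mul_smul_comm, lT_mul_lTinv, Algebra.algebraMap_eq_smul_one,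
        sub_self]
    exact RingHom.mem_ker.mp (hle hp))

theorem psi_wv_i : psi A a i j hij (wv A a i) = lT A := by
  show MvPolynomial.aeval _ (MvPolynomial.X i) = _
  rw [MvPolynomial.aeval_X, if_pos rfl]

theorem psi_wv_j : psi A a i j hij (wv A a j) = a • lTinv A := by
  show MvPolynomial.aeval _ (MvPolynomial.X j) = _
  rw [MvPolynomial.aeval_X, if_neg hij.symm]

section Loc

variable (S : Type u) [CommRing S] [Algebra (StrictSS.NodeAlg A a) S] [Algebra A S]
  [IsScalarTower A (StrictSS.NodeAlg A a) S] [IsLocalization.Away (wv A a i) S]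

theorem isUnit_lT : IsUnit (lT A) := IsUnit.of_mul_eq_one _ (lT_mul_lTinv A)

/-- `A[u,v]/(uv-a)[1/X i] → A[T,T⁻¹]` -/
noncomputable def Psi : S →ₐ[A] Laur A :=
  IsLocalization.liftAlgHom (M := Submonoid.powers (wv A a i)) (f := psi A a i j hij) (by
    rintro ⟨_, n, rfl⟩
    rw [map_pow, psi_wv_i]
    exact (isUnit_lT A).pow n)

theorem Psi_algebraMap (r : StrictSS.NodeAlg A a) :
    Psi A a i j hij S (algebraMap _ S r) = psi A a i j hij r :=
  IsLocalization.lift_eq _ r

/-- `A[T,T⁻¹] → A[u,v]/(uv-a)[1/X i]` -/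
noncomputable def Theta : Laur A →ₐ[A] S :=
  IsLocalization.liftAlgHom (M := Submonoid.powers (Polynomial.X : A[X]))
    (f := Polynomial.aeval (algebraMap (StrictSS.NodeAlg A a) S (wv A a i))) (by
    rintro ⟨_, n, rfl⟩
    rw [map_pow, Polynomial.aeval_X]
    exact (IsLocalization.Away.algebraMap_isUnit (wv A a i)).pow n)

theorem Theta_lT : Theta A a i S (lT A) = algebraMap (StrictSS.NodeAlg A a) S (wv A a i) := by
  unfold lT Theta
  rw [IsLocalization.liftAlgHom_apply, IsLocalization.lift_eq]
  exact Polynomial.aeval_X _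

theorem Theta_lTinv : algebraMap (StrictSS.NodeAlg A a) S (wv A a i) * Theta A a i S (lTinv A) = 1 := by
  rw [← Theta_lT, ← map_mul, lT_mul_lTinv, map_one]

theorem Psi_comp_Theta : (Psi A a i j hij S).comp (Theta A a i S) = AlgHom.id A _ := by
  apply IsLocalization.algHom_ext (Submonoid.powers (Polynomial.X : A[X]))
  apply Polynomial.algHom_ext
  simp only [AlgHom.comp_apply, AlgHom.id_apply, Algebra.algHom_apply]
  show Psi A a i j hij S (Theta A a i S (lT A)) = lT A
  rw [Theta_lT, Psi_algebraMap, psi_wv_i]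

theorem Theta_Psi_i : Theta A a i S (Psi A a i j hij S (algebraMap _ S (wv A a i))) =
    algebraMap _ S (wv A a i) := by
  rw [Psi_algebraMap, psi_wv_i, Theta_lT]

theorem Theta_Psi_j : Theta A a i S (Psi A a i j hij S (algebraMap _ S (wv A a j))) =
    algebraMap _ S (wv A a j) := by
  rw [Psi_algebraMap, psi_wv_j, map_smul]
  have h1 : algebraMap (StrictSS.NodeAlg A a) S (wv A a j) =
      algebraMap (StrictSS.NodeAlg A a) S (wv A a j) *
        (algebraMap (StrictSS.NodeAlg A a) S (wv A a i) * Theta A a i S (lTinv A)) := by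
    rw [Theta_lTinv, mul_one]
  rw [h1, ← mul_assoc, ← map_mul, mul_comm (wv A a j), wv_mul A a i j hij,
    ← IsScalarTower.algebraMap_apply, Algebra.smul_def]

theorem Theta_comp_Psi : (Theta A a i S).comp (Psi A a i j hij S) = AlgHom.id A _ := by
  apply IsLocalization.algHom_ext (Submonoid.powers (wv A a i))
  apply Ideal.Quotient.algHom_ext
  apply MvPolynomial.algHom_ext
  intro k
  simp only [AlgHom.comp_apply, AlgHom.id_apply, Algebra.algHom_apply, Ideal.Quotient.mkₐ_eq_mk]
  rcases fin_two_cases i j hij k with h | h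
  · rw [h]
    exact Theta_Psi_i A a i j hij S
  · rw [h]
    exact Theta_Psi_j A a i j hij S

/-- `A[u,v]/(uv-a)[1/X i] ≃ A[T,T⁻¹]` -/
noncomputable def awayEquiv : S ≃ₐ[A] Laur A :=
  AlgEquiv.ofAlgHom (Psi A a i j hij S) (Theta A a i S) (Psi_comp_Theta A a i j hij S)
    (Theta_comp_Psi A a i j hij S)

include a hij in
theorem smooth_away : Algebra.Smooth A S :=
  Algebra.Smooth.of_equiv (awayEquiv A a i j hij S).symm

end Loc

end Groth.Agent.H8.NodeModel
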