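import Mathlib
import Groth.Prelude.Def_CurvBase
import Groth.Prelude.Def_StrictSS
import Groth.Agent.Lib.Helper8.NodeModel.Geom
import Groth.Agent.Lib.Helper8.NodeModel.Smooth

/-!
# `Spec κ[u,v]/(uv - c)` has at-worst-nodal singularities (helper8, S15645)
-/

set_option autoImplicit false
universe u

open CategoryTheory CategoryTheory.Limits AlgebraicGeometry

namespace Groth.Agent.H8.NodeModel

theorem smooth_nbhd (A : Type u) [CommRing A] (a : A) (i j : Fin 2) (hij : i ≠ j)
    (x : Spec (CommRingCat.of (StrictSS.NodeAlg A a))) (hx : wv A a i ∉ x.asIdeal) :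
    ∃ U : (Spec (CommRingCat.of (StrictSS.NodeAlg A a))).Opens, x ∈ U ∧
      Smooth (U.ι ≫ StrictSS.nodeToBase A a) := by
  let jm : Spec (CommRingCat.of (Localization.Away (wv A a i))) ⟶
      Spec (CommRingCat.of (StrictSS.NodeAlg A a)) :=
    Spec.map (CommRingCat.ofHom (algebraMap (StrictSS.NodeAlg A a)
      (Localization.Away (wv A a i))))
  haveI : IsOpenImmersion jm := inferInstance
  refine ⟨jm.opensRange, ?_, ?_⟩
  · show x ∈ Set.range jm
    have h := PrimeSpectrum.localization_away_comap_range (Localization.Away (wv A a i)) (wv A a i)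
    have hx' : x ∈ (PrimeSpectrum.basicOpen (wv A a i) : Set (PrimeSpectrum _)) := hx
    rw [← h] at hx'
    exact hx'
  · rw [← Scheme.Hom.isoOpensRange_inv_comp, Category.assoc]
    haveI : Algebra.Smooth A (Localization.Away (wv A a i)) :=
      smooth_away A a i j hij (Localization.Away (wv A a i))
    haveI : Smooth (jm ≫ StrictSS.nodeToBase A a) := by
      show Smooth (Spec.map _ ≫ Spec.map _)
      rw [← Spec.map_comp, HasRingHomProperty.Spec_iff (P := @Smooth)]
      have : (CommRingCat.ofHom (algebraMap A (StrictSS.NodeAlg A a)) ≫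
          CommRingCat.ofHom (algebraMap (StrictSS.NodeAlg A a)
            (Localization.Away (wv A a i)))).hom = algebraMap A (Localization.Away (wv A a i)) := by
        ext r
        simp only [CommRingCat.hom_comp, CommRingCat.hom_ofHom, RingHom.comp_apply]
        exact (IsScalarTower.algebraMap_apply A (StrictSS.NodeAlg A a) _ r).symm
      rw [this, RingHom.smooth_algebraMap]
      infer_instance
    infer_instance

theorem awn_node (κ : Type u) [Field κ] (c : κ) :
    @Curv2.AtWorstNodal κ _ (Spec (CommRingCat.of (StrictSS.NodeAlg κ c)))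
      ⟨StrictSS.nodeToBase κ c⟩ := by
  letI : (Spec (CommRingCat.of (StrictSS.NodeAlg κ c))).Over (Spec (CommRingCat.of κ)) :=
    ⟨StrictSS.nodeToBase κ c⟩
  intro x hx
  by_cases hu : wv κ c 0 ∈ x.asIdeal
  · by_cases hv : wv κ c 1 ∈ x.asIdeal
    · right
      have hc : c = 0 := by
        by_contra hne
        have h1 : algebraMap κ (StrictSS.NodeAlg κ c) c ∈ x.asIdeal := by
          rw [← wv_mul κ c 0 1 (by decide)]
          exact Ideal.mul_mem_right _ _ hu
        have h2 : IsUnit (algebraMap κ (StrictSS.NodeAlg κ c) c) :=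
          (isUnit_iff_ne_zero.mpr hne).map _
        exact x.isPrime.ne_top (Ideal.eq_top_of_isUnit_mem _ h1 h2)
      exact isNode_origin κ hc x hu hv
    · left
      exact smooth_nbhd κ c 1 0 (by decide) x hv
  · left
    exact smooth_nbhd κ c 0 1 (by decide) x hu

end Groth.Agent.H8.NodeModel
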