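import Mathlib
import Groth.Prelude.Def_CurvBase
import Groth.Prelude.Def_StrictSS
import Groth.Prelude.Def_Cyc
import Groth.Agent.Lib.Helper8.NodeModel.AWN
import Groth.Agent.Lib.Helper8.NodeEt.Src
import Groth.Agent.Lib.Helper8.NodeEt.Post

/-!
# Fibrewise at-worst-nodal morphisms (helper8, S15645)
-/

set_option autoImplicit false
universe u

open CategoryTheory CategoryTheory.Limits AlgebraicGeometry

namespace Groth.Agent.H8.NodeModel

open Groth.Agent.H8.NodeEtS Groth.Agent.H8.NodeEt

/-- every fibre has at-worst-nodal singularities -/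
def FibAWN {X S : Scheme.{u}} (f : X ⟶ S) : Prop :=
  ∀ s : S, @Curv2.AtWorstNodal (S.residueField s) _ (pullback f (S.fromSpecResidueField s))
    ⟨pullback.snd f (S.fromSpecResidueField s)⟩

theorem fibAWN_precomp_etale {X Y S : Scheme.{u}} (f : X ⟶ S) [LocallyOfFiniteType f]
    (hf : FibAWN f) (g : Y ⟶ X) [Etale g] : FibAWN (g ≫ f) := by
  intro s
  haveI := etale_bcMap f g (S.fromSpecResidueField s)
  haveI hlft : LocallyOfFiniteType (pullback.snd f (S.fromSpecResidueField s)) := inferInstance
  have h1 := @atWorstNodal_of_etale (S.residueField s) _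
    (pullback f (S.fromSpecResidueField s)) ⟨pullback.snd f (S.fromSpecResidueField s)⟩ hlft _
    (bcMap f g (S.fromSpecResidueField s)) (etale_bcMap f g (S.fromSpecResidueField s)) (hf s)
  have hinst := congrArg (fun m => (⟨m⟩ : (pullback (g ≫ f) (S.fromSpecResidueField s)).Over
    (Spec (CommRingCat.of (S.residueField s))))) (bcMap_snd f g (S.fromSpecResidueField s))
  exact Eq.mp (congrArg (fun i => @Curv2.AtWorstNodal (S.residueField s) _
    (pullback (g ≫ f) (S.fromSpecResidueField s)) i) hinst) h1

theorem fibAWN_postcomp_etale {X S' S : Scheme.{u}} (e : S' ⟶ S) [Etale e] (f : X ⟶ S')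
    [LocallyOfFinitePresentation f] (hf : FibAWN f) : FibAWN (f ≫ e) := by
  intro s y hcl
  obtain ⟨s', hs'⟩ : ∃ s', f (pullback.fst (f ≫ e) (S.fromSpecResidueField s) y) = s' :=
    ⟨_, rfl⟩
  have h : e s' = s := by rw [← hs']; exact fibre_point_over e f s y
  subst h
  obtain ⟨x', rfl⟩ := (mem_range_psi_iff f e s' y).mpr hs'
  exact awn_at_psi f e s' (hf s') x' hcl

theorem fibAWN_of_etale_cover {X S : Scheme.{u}} (f : X ⟶ S) [LocallyOfFiniteType f]
    (ι : Type u) (U : ι → Scheme.{u}) (g : ∀ i, U i ⟶ X) [∀ i, Etale (g i)]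
    (hsurj : ∀ x : X, ∃ i, x ∈ Set.range (g i).base)
    (h : ∀ i, FibAWN (g i ≫ f)) : FibAWN f := by
  intro s
  haveI hlft : LocallyOfFiniteType (pullback.snd f (S.fromSpecResidueField s)) := inferInstance
  have hsurj' : ∀ w : ↥(pullback f (S.fromSpecResidueField s)), ∃ i,
      ∃ v : ↥(pullback (g i ≫ f) (S.fromSpecResidueField s)),
        bcMap f (g i) (S.fromSpecResidueField s) v = w := by
    intro w
    obtain ⟨i, u, hu⟩ := hsurj (pullback.fst f (S.fromSpecResidueField s) w)
    obtain ⟨p, hp1, -⟩ := Scheme.exists_preimage_of_isPullback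
      (isPullback_bcMap f (g i) (S.fromSpecResidueField s)) w u hu.symm
    exact ⟨i, p, hp1⟩
  refine @atWorstNodal_of_etale_cover (S.residueField s) _
    (pullback f (S.fromSpecResidueField s)) ⟨pullback.snd f (S.fromSpecResidueField s)⟩ hlft ι
    (fun i => pullback (g i ≫ f) (S.fromSpecResidueField s))
    (fun i => bcMap f (g i) (S.fromSpecResidueField s))
    (fun i => etale_bcMap f (g i) (S.fromSpecResidueField s)) hsurj' (fun i => ?_)
  have h1 := h i s
  have hinst := congrArg (fun m => (⟨m⟩ : (pullback (g i ≫ f) (S.fromSpecResidueField s)).Over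
    (Spec (CommRingCat.of (S.residueField s))))) (bcMap_snd f (g i) (S.fromSpecResidueField s))
  exact Eq.mp (congrArg (fun j => @Curv2.AtWorstNodal (S.residueField s) _
    (pullback (g i ≫ f) (S.fromSpecResidueField s)) j) hinst.symm) h1

theorem fibAWN_of_smooth {X S : Scheme.{u}} (f : X ⟶ S) [Smooth f] : FibAWN f := by
  intro s x _
  left
  refine ⟨⊤, trivial, ?_⟩
  haveI : Smooth (pullback.snd f (S.fromSpecResidueField s)) := inferInstance
  show Smooth ((⊤ : (pullback f (S.fromSpecResidueField s)).Opens).ι ≫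
    pullback.snd f (S.fromSpecResidueField s))
  infer_instance

theorem nodalFamily_of_fibAWN {X S : Scheme.{u}} (f : X ⟶ S) [Flat f]
    [LocallyOfFinitePresentation f] (hdim : Cyc.HasRelDim f 1) (h : FibAWN f) :
    Curv2.IsNodalFamily f := by
  refine ⟨inferInstance, inferInstance, fun s => ⟨fun Z hZ => ?_, h s⟩⟩
  have := hdim s Z hZ
  rw [this]
  rfl

instance smooth_lineToBase (A : Type u) [CommRing A] : Smooth (StrictSS.lineToBase A) := by
  show Smooth (Spec.map (CommRingCat.ofHom (Polynomial.C : A →+* Polynomial A)))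
  rw [HasRingHomProperty.Spec_iff (P := @Smooth)]
  have : (CommRingCat.ofHom (Polynomial.C : A →+* Polynomial A)).hom =
      algebraMap A (Polynomial A) := rfl
  rw [this, RingHom.smooth_algebraMap]
  exact ⟨inferInstance, inferInstance⟩

theorem fibAWN_node (A : Type u) [CommRing A] (a : A) : FibAWN (StrictSS.nodeToBase A a) := by
  intro s
  letI : Algebra A ((Spec (CommRingCat.of A)).residueField s) :=
    (Spec.preimage ((Spec (CommRingCat.of A)).fromSpecResidueField s)).hom.toAlgebra
  have ht : (Spec (CommRingCat.of A)).fromSpecResidueField s =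
      Spec.map (CommRingCat.ofHom (algebraMap A ((Spec (CommRingCat.of A)).residueField s))) :=
    (Spec.map_preimage _).symm
  have hpb := isPullback_node A ((Spec (CommRingCat.of A)).residueField s) a
  rw [← ht] at hpb
  have h2 : hpb.isoPullback.hom ≫ pullback.snd _ _ = StrictSS.nodeToBase _ _ :=
    hpb.isoPullback_hom_snd
  have h3 : hpb.isoPullback.inv ≫ StrictSS.nodeToBase _ _ = pullback.snd _ _ := by
    rw [Iso.inv_comp_eq]
    exact h2.symm
  have h1 := @atWorstNodal_of_etale ((Spec (CommRingCat.of A)).residueField s) _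
    (Spec (CommRingCat.of (StrictSS.NodeAlg ((Spec (CommRingCat.of A)).residueField s)
      (algebraMap A ((Spec (CommRingCat.of A)).residueField s) a))))
    ⟨StrictSS.nodeToBase _ _⟩ (lft_nodeToBase _ _) _ hpb.isoPullback.inv inferInstance
    (awn_node _ _)
  have hinst := congrArg (fun m => (⟨m⟩ : (pullback (StrictSS.nodeToBase A a)
    ((Spec (CommRingCat.of A)).fromSpecResidueField s)).Over
    (Spec (CommRingCat.of ((Spec (CommRingCat.of A)).residueField s))))) h3
  exact Eq.mp (congrArg (fun i => @Curv2.AtWorstNodal ((Spec (CommRingCat.of A)).residueField s) _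
    (pullback (StrictSS.nodeToBase A a) ((Spec (CommRingCat.of A)).fromSpecResidueField s)) i)
    hinst) h1

end Groth.Agent.H8.NodeModel
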