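import Mathlib
import Groth.Prelude.Def_CurvBase
import Groth.Prelude.Def_StrictSS
import Groth.Prelude.Def_SSMod
import Groth.Agent.Lib.Helper8.NodeModel.FibAWN

/-!
# Strictly semistable multipointed curves are semistable (helper8, S15645)
-/

set_option autoImplicit false
universe u

open CategoryTheory CategoryTheory.Limits AlgebraicGeometry

namespace Groth.Agent.H8.NodeModel

instance lfp_nodeToBase (A : Type u) [CommRing A] (a : A) :
    LocallyOfFinitePresentation (StrictSS.nodeToBase A a) := by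
  rw [HasRingHomProperty.Spec_iff (P := @LocallyOfFinitePresentation)]
  have : (CommRingCat.ofHom (algebraMap A (StrictSS.NodeAlg A a))).hom =
      algebraMap A (StrictSS.NodeAlg A a) := rfl
  rw [this, RingHom.finitePresentation_algebraMap]
  exact Algebra.FinitePresentation.quotient (Submodule.fg_span_singleton _)

theorem lineZero_lineToBase (A : Type u) [CommRing A] :
    StrictSS.lineZero A ≫ StrictSS.lineToBase A = 𝟙 _ := by
  show Spec.map _ ≫ Spec.map _ = _
  rw [← Spec.map_comp]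
  have : CommRingCat.ofHom (Polynomial.C : A →+* Polynomial A) ≫
      CommRingCat.ofHom (Polynomial.evalRingHom (0 : A)) = 𝟙 _ := by
    ext r
    simp
  rw [this, Spec.map_id]

section Charts

variable {C D S : Scheme.{u}} (φ : C ⟶ S) (i : D ⟶ C)

theorem line_facts (x : C) (hx : StrictSS.HasLineChartAt φ i x) :
    ∃ U : C.Opens, x ∈ U ∧ FibAWN (U.ι ≫ φ) ∧ Smooth (U.ι ≫ φ) ∧
      Etale ((i ⁻¹ᵁ U).ι ≫ i ≫ φ) := by
  obtain ⟨A, j, hj, U, hxU, q, hq, f, fD, hfet, hfq, hfDet, hfD⟩ := hx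
  haveI := hj
  haveI := hfet
  haveI := hfDet
  haveI : Etale j := inferInstance
  refine ⟨U, hxU, ?_, ?_, ?_⟩
  · rw [hq, ← hfq]
    exact fibAWN_postcomp_etale j (f ≫ StrictSS.lineToBase A)
      (fibAWN_precomp_etale (StrictSS.lineToBase A) (fibAWN_of_smooth _) f)
  · rw [hq, ← hfq]
    infer_instance
  · have e1 : (i ⁻¹ᵁ U).ι ≫ i ≫ φ = fD ≫ j := by
      rw [← Category.assoc, ← morphismRestrict_ι, Category.assoc, hq, ← hfq,
        ← Category.assoc (i ∣_ U), ← Category.assoc, ← hfD, Category.assoc fD,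
        lineZero_lineToBase]
      erw [Category.comp_id]
    rw [e1]
    infer_instance

theorem node_facts (x : C) (hx : StrictSS.HasNodeChartAt φ i x) :
    ∃ U : C.Opens, x ∈ U ∧ FibAWN (U.ι ≫ φ) ∧
      Disjoint (Set.range (i.base : D → C)) (U : Set C) := by
  obtain ⟨A, j, hj, U, hxU, q, hq, a, f, hfet, hfq, hdisj⟩ := hx
  haveI := hj
  haveI := hfet
  haveI : Etale j := inferInstance
  refine ⟨U, hxU, ?_, hdisj⟩
  rw [hq, ← hfq]
  exact fibAWN_postcomp_etale j (f ≫ StrictSS.nodeToBase A a)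
    (fibAWN_precomp_etale (StrictSS.nodeToBase A a) (fibAWN_node A a) f)

theorem formallySmooth_stalkMap_of_smooth_nbhd [LocallyOfFinitePresentation φ] (U : C.Opens)
    (x : C) (hxU : x ∈ U) [Smooth (U.ι ≫ φ)] : (φ.stalkMap x).hom.FormallySmooth := by
  have h1 := Scheme.Hom.preimage_smoothLocus_eq U.ι φ
  rw [Scheme.Hom.smoothLocus_eq_top (U.ι ≫ φ)] at h1
  have h2 : (⟨x, hxU⟩ : U) ∈ U.ι ⁻¹ᵁ φ.smoothLocus := by rw [h1]; trivial
  exact h2

theorem main (h : StrictSS.IsStrictlySemistable φ i) : SSMod.IsSemistable φ i := by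
  obtain ⟨hMP, hch⟩ := h
  have hMP' := hMP
  obtain ⟨hflat, hlfp, -, -, hdim, -, -, -, -⟩ := hMP'
  haveI := hflat
  haveI := hlfp
  refine ⟨hMP, ?_, ?_, ?_⟩
  · -- nodal family
    have hloc : ∀ x : C, ∃ U : C.Opens, x ∈ U ∧ FibAWN (U.ι ≫ φ) := by
      intro x
      rcases hch x with hl | hn
      · obtain ⟨U, hxU, hU, -, -⟩ := line_facts φ i x hl
        exact ⟨U, hxU, hU⟩
      · obtain ⟨U, hxU, hU, -⟩ := node_facts φ i x hn
        exact ⟨U, hxU, hU⟩
    choose U hxU hU using hloc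
    refine nodalFamily_of_fibAWN φ hdim ?_
    refine fibAWN_of_etale_cover φ C (fun x => (U x : Scheme.{u})) (fun x => (U x).ι) ?_ hU
    intro x
    refine ⟨x, ?_⟩
    show x ∈ Set.range (U x).ι
    rw [Scheme.Opens.range_ι]
    exact hxU x
  · -- D étale over S
    have hloc : ∀ d : D, ∃ V : D.Opens, d ∈ V ∧ Etale (V.ι ≫ i ≫ φ) := by
      intro d
      rcases hch (i d) with hl | hn
      · obtain ⟨U, hxU, -, -, hU⟩ := line_facts φ i (i d) hl
        exact ⟨i ⁻¹ᵁ U, hxU, hU⟩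
      · obtain ⟨U, hxU, -, hdisj⟩ := node_facts φ i (i d) hn
        exact absurd hxU (Set.disjoint_left.mp hdisj ⟨d, rfl⟩)
    choose V hdV hV using hloc
    refine IsZariskiLocalAtSource.of_iSup_eq_top (P := @Etale) V ?_ hV
    rw [eq_top_iff]
    rintro d -
    exact TopologicalSpace.Opens.mem_iSup.mpr ⟨d, hdV d⟩
  · -- D avoids the non-smooth locus
    rw [Set.disjoint_left]
    rintro _ ⟨d, rfl⟩ hns
    rcases hch (i d) with hl | hn
    · obtain ⟨U, hxU, -, hsm, -⟩ := line_facts φ i (i d) hl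
      haveI := hsm
      exact hns (formallySmooth_stalkMap_of_smooth_nbhd φ U (i d) hxU)
    · obtain ⟨U, hxU, -, hdisj⟩ := node_facts φ i (i d) hn
      exact absurd hxU (Set.disjoint_left.mp hdisj ⟨d, rfl⟩)

end Charts

end Groth.Agent.H8.NodeModel
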